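import Groth.Agent.HopfSmDim.RestrictedLie
import Mathlib

/-!
# Integration by parts for commuting derivations in characteristic `p`
-/

set_option autoImplicit false

universe u v

namespace Groth.Agent.FrobJac

variable {k : Type u} {A : Type v} [Field k] [CommRing A] [Algebra k A]
variable {ι : Type*}

lemma der_prod [DecidableEq ι] (D : Derivation k A A) (s : Finset ι) (g : ι → A) :
    D (∏ l ∈ s, g l) = ∑ l ∈ s, D (g l) * ∏ m ∈ s.erase l, g m := by
  induction s using Finset.induction_on with
  | empty => simp
  | @insert a s ha ih =>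
    rw [Finset.prod_insert ha, D.leibniz, smul_eq_mul, smul_eq_mul, Finset.sum_insert ha,
      Finset.erase_insert ha, ih, Finset.mul_sum, add_comm, mul_comm (∏ l ∈ s, g l)]
    congr 1
    refine Finset.sum_congr rfl fun l hl => ?_
    have hla : a ≠ l := fun h => ha (h ▸ hl)
    rw [Finset.erase_insert_of_ne hla, Finset.prod_insert (fun h => ha (Finset.mem_of_mem_erase h))]
    ring

lemma pow_apply_mul (D : Derivation k A A) (x : A) (hx : D x = 1) (m : ℕ) :
    ∀ c : A, D c = 0 → ((D : A →ₗ[k] A) ^ m) (x ^ m * c) = (m.factorial : A) * c := by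
  induction m with
  | zero => intro c _; simp
  | succ m ih =>
    intro c hc
    have e : (D : A →ₗ[k] A) (x ^ (m + 1) * c) = x ^ m * (((m + 1 : ℕ) : A) * c) := by
      show D (x ^ (m + 1) * c) = _
      rw [D.leibniz, D.leibniz_pow, hc, hx]
      simp only [smul_eq_mul, mul_zero, zero_add, Nat.add_sub_cancel, mul_one, nsmul_eq_mul]
      ring
    rw [pow_succ, Module.End.mul_apply, e, ih _ (by simp [D.leibniz, hc]), Nat.factorial_succ]
    push_cast
    ring

variable {n : ℕ} (p : ℕ) [Fact p.Prime] [CharP A p] (D : Fin n → Derivation k A A) (t : Fin n → A)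

/-- The data of coordinates with partial derivatives. -/
structure Coords : Prop where
  eval : ∀ i j, D j (t i) = if i = j then 1 else 0
  ext : ∀ d : Derivation k A A, (∀ i, d (t i) = 0) → d = 0

variable {D t} {p}

lemma Coords.comm (h : Coords D t) (a b : Fin n) (x : A) : D a (D b x) = D b (D a x) := by
  have h0 : ⁅D a, D b⁆ = 0 := h.ext _ fun i => by
    rw [Derivation.commutator_apply, h.eval, h.eval]
    split_ifs <;> simp
  have := DFunLike.congr_fun h0 x
  rwa [Derivation.commutator_apply, Derivation.zero_apply, sub_eq_zero] at this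

lemma Coords.pow_p (h : Coords D t) (a : Fin n) : ((D a : A →ₗ[k] A) ^ p) = 0 := by
  let Dl : A →ₗ[k] A := D a
  have hd : HopfSmDim.IsDer (k := k) Dl := fun x y => by
    show D a (x * y) = _
    rw [(D a).leibniz, smul_eq_mul, smul_eq_mul, mul_comm y, add_comm]
    rfl
  have hp := hd.pow_p p
  let d : Derivation k A A := Derivation.mk' (Dl ^ p) fun x y => by
    rw [hp, smul_eq_mul, smul_eq_mul, mul_comm y, add_comm]
  have h0 : d = 0 := h.ext _ fun i => by
    show (Dl ^ p) (t i) = 0
    obtain ⟨q, hq⟩ : ∃ q, p = q + 2 :=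
      ⟨p - 2, (Nat.sub_add_cancel (Fact.out : p.Prime).two_le).symm⟩
    rw [hq, pow_add, Module.End.mul_apply, pow_two, Module.End.mul_apply]
    show (Dl ^ q) (D a (D a (t i))) = 0
    rw [h.eval]
    split_ifs <;> simp
  exact LinearMap.ext fun x => DFunLike.congr_fun h0 x

lemma Coords.commute (h : Coords D t) (a b : Fin n) :
    Commute ((D a : A →ₗ[k] A) ^ (p - 1)) ((D b : A →ₗ[k] A) ^ (p - 1)) :=
  Commute.pow_pow (LinearMap.ext fun x => h.comm a b x) _ _

variable (p) in
/-- The composite of all `(p-1)`-st powers of the partial derivatives. -/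
noncomputable def Coords.top (h : Coords D t) (s : Finset (Fin n)) : A →ₗ[k] A :=
  s.noncommProd (fun a => (D a : A →ₗ[k] A) ^ (p - 1)) fun a _ b _ _ => h.commute a b

lemma Coords.top_der (h : Coords D t) (a : Fin n) (x : A) :
    h.top p Finset.univ (D a x) = 0 := by
  rw [Coords.top, ← Finset.noncommProd_erase_mul _ (Finset.mem_univ a), Module.End.mul_apply]
  have e : ((D a : A →ₗ[k] A) ^ (p - 1)) (D a x) = ((D a : A →ₗ[k] A) ^ p) x := by
    rw [← Nat.sub_add_cancel (Fact.out : p.Prime).one_le, pow_succ, Module.End.mul_apply]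
    rfl
  rw [e, h.pow_p]
  simp

lemma Coords.top_prod (h : Coords D t) (s : Finset (Fin n)) :
    h.top p s (∏ i, t i ^ (p - 1)) =
      ((p - 1).factorial : A) ^ s.card * ∏ i ∈ sᶜ, t i ^ (p - 1) := by
  induction s using Finset.induction_on with
  | empty => simp [Coords.top]
  | @insert a s ha ih =>
    rw [Coords.top, Finset.noncommProd_insert_of_notMem _ _ _ _ ha, Module.End.mul_apply]
    change ((D a : A →ₗ[k] A) ^ (p - 1)) (h.top p s (∏ i, t i ^ (p - 1))) = _
    rw [ih, Finset.card_insert_of_notMem ha, Finset.compl_insert,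
      ← Finset.mul_prod_erase _ _ (Finset.mem_compl.2 ha), ← mul_assoc,
      mul_comm (((p - 1).factorial : A) ^ s.card), mul_assoc,
      pow_apply_mul (D a) (t a) (by rw [h.eval]; simp)]
    · ring
    · rw [(D a).leibniz, der_prod]
      have : ∀ l ∈ sᶜ.erase a, D a (t l ^ (p - 1)) = 0 := fun l hl => by
        rw [Derivation.leibniz_pow, h.eval, if_neg (Finset.ne_of_mem_erase hl)]
        simp
      rw [Finset.sum_eq_zero (fun l hl => by rw [this l hl, zero_mul])]
      simp

lemma Coords.top_det (h : Coords D t) (f : Fin n → A) (s : Finset (Fin n)) (hs : s ≠ Finset.univ) :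
    h.top p Finset.univ (Matrix.of fun i j => if i ∈ s then (if i = j then t i ^ (p - 1) else 0)
      else D j (f i)).det = 0 := by
  classical
  obtain ⟨i₀, hi₀⟩ : ∃ i₀, i₀ ∉ s := by
    by_contra hh
    push Not at hh
    exact hs (Finset.eq_univ_iff_forall.2 hh)
  let r : Fin n → Fin n → A := fun i j =>
    if i ∈ s then (if i = j then t i ^ (p - 1) else 0) else D j (f i)
  let L := h.top p Finset.univ
  let G : Equiv.Perm (Fin n) → Fin n → A := fun σ l =>
    D (σ i₀) (r l (σ l)) * ∏ m ∈ (Finset.univ.erase i₀).erase l, r m (σ m)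
  have parts : ∀ (a : Fin n) (x y : A), L (D a x * y) = - L (x * D a y) := fun a x y => by
    have := h.top_der (p := p) a (x * y)
    rw [(D a).leibniz, smul_eq_mul, smul_eq_mul, map_add, mul_comm y] at this
    exact eq_neg_of_add_eq_zero_right this
  show L (Matrix.det (Matrix.of r)) = 0
  rw [← Matrix.det_transpose, Matrix.det_apply, map_sum]
  have e : ∀ σ : Equiv.Perm (Fin n),
      L (Equiv.Perm.sign σ • ∏ i, (Matrix.of r).transpose (σ i) i) =
        - L (f i₀ * (Equiv.Perm.sign σ • ∑ l ∈ Finset.univ.erase i₀, G σ l)) := by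
    intro σ
    simp only [Matrix.transpose_apply, Matrix.of_apply, Units.smul_def, mul_smul_comm]
    rw [map_zsmul, map_zsmul, ← Finset.mul_prod_erase _ _ (Finset.mem_univ i₀),
      show r i₀ (σ i₀) = D (σ i₀) (f i₀) from if_neg hi₀, parts, der_prod, smul_neg]
  rw [Finset.sum_congr rfl fun σ _ => e σ, Finset.sum_neg_distrib, ← map_sum, ← Finset.mul_sum,
    neg_eq_zero]
  have key : (∑ σ : Equiv.Perm (Fin n), Equiv.Perm.sign σ • ∑ l ∈ Finset.univ.erase i₀, G σ l) = 0 := by
    simp only [Finset.smul_sum]
    rw [Finset.sum_comm]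
    refine Finset.sum_eq_zero fun l hl => ?_
    have hli : l ≠ i₀ := Finset.ne_of_mem_erase hl
    by_cases hls : l ∈ s
    · refine Finset.sum_eq_zero fun σ _ => ?_
      have : D (σ i₀) (r l (σ l)) = 0 := by
        simp only [r, if_pos hls]
        split_ifs with hσ
        · rw [Derivation.leibniz_pow, h.eval,
            if_neg (fun he => hli (σ.injective (hσ ▸ he : σ l = σ i₀)))]
          simp
        · simp
      simp [G, this]
    · refine Finset.sum_involution (fun σ _ => σ * Equiv.swap i₀ l) (fun σ _ => ?_)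
        (fun σ _ _ he => hli ?_) (fun σ _ => Finset.mem_univ _) (fun σ _ => ?_)
      · have e1 : G (σ * Equiv.swap i₀ l) l = G σ l := by
          simp only [G, r, if_neg hls, Equiv.Perm.mul_apply, Equiv.swap_apply_left,
            Equiv.swap_apply_right]
          rw [h.comm (σ l) (σ i₀)]
          congr 1
          refine Finset.prod_congr rfl fun m hm => ?_
          simp only [Finset.mem_erase] at hm
          have e2 : (σ * Equiv.swap i₀ l) m = σ m := by
            rw [Equiv.Perm.mul_apply, Equiv.swap_apply_of_ne_of_ne hm.2.1 hm.1]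
          exact congrArg (r m) e2
        rw [e1, Equiv.Perm.sign_mul, Equiv.Perm.sign_swap (Ne.symm hli), mul_neg, mul_one,
          Units.neg_smul, add_neg_cancel]
      · have := Equiv.congr_fun (mul_eq_left.1 he) i₀
        simpa using this
      · simp [mul_assoc]
  rw [key, mul_zero, map_zero]

theorem Coords.det_ne_zero [Nontrivial A] (h : Coords D t) (f : Fin n → A) :
    (Matrix.of fun i j : Fin n => (if i = j then t i ^ (p - 1) else 0) + D j (f i)).det ≠ 0 := by
  classical
  intro h0
  let a : Fin n → Fin n → A := fun i j => if i = j then t i ^ (p - 1) else 0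
  let b : Fin n → Fin n → A := fun i j => D j (f i)
  have e : Matrix.detRowAlternating.toMultilinearMap (a + b) =
      ∑ s : Finset (Fin n), Matrix.detRowAlternating.toMultilinearMap (s.piecewise a b) :=
    MultilinearMap.map_add_univ _ _ _
  have h1 := congrArg (h.top p Finset.univ) e
  rw [map_sum, Finset.sum_eq_single Finset.univ] at h1
  · have hl : Matrix.detRowAlternating.toMultilinearMap (a + b) = (0 : A) := h0
    have hr : Matrix.detRowAlternating.toMultilinearMap (Finset.univ.piecewise a b) =
        ∏ i, t i ^ (p - 1) := by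
      rw [Finset.piecewise_univ]
      show Matrix.det (Matrix.of a) = _
      rw [show Matrix.of a = Matrix.diagonal (fun i => t i ^ (p - 1)) from rfl, Matrix.det_diagonal]
    rw [hl, hr, map_zero, h.top_prod, Finset.compl_univ, Finset.prod_empty, mul_one] at h1
    have hu : IsUnit ((p - 1).factorial : A) := by
      refine (CharP.isUnit_natCast_iff (Fact.out : p.Prime)).2 fun hd => ?_
      have := (Fact.out : p.Prime).dvd_factorial.1 hd
      have := (Fact.out : p.Prime).two_le
      omega
    exact (hu.pow _).ne_zero h1.symm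
  · intro s _ hs
    have hh := h.top_det (p := p) f s hs
    refine Eq.trans ?_ hh
    congr 1
    show Matrix.det (Matrix.of (s.piecewise a b)) = _
    congr 1
    ext i j
    by_cases hi : i ∈ s <;> simp [a, b, hi, Finset.piecewise]
  · intro hh
    exact absurd (Finset.mem_univ _) hh

end Groth.Agent.FrobJac
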